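import Mathlib
import Groth.Agent.LocFlat.Fibre

/-!
Regular sequences and flatness: auxiliary lemmas for EGA IV 11.3.7 / 15.1.16 type statements.
-/

universe u

set_option backward.isDefEq.respectTransparency false

namespace Groth.Agent.FlatSeqLib

open RingTheory.Sequence TensorProduct Pointwise

section

variable {B : Type u} [CommRing B] {M : Type u} [AddCommGroup M] [Module B M]

noncomputable def quotCommHom (I J : Ideal B) :
    ((M ⧸ (I • ⊤ : Submodule B M)) ⧸ (J • ⊤ : Submodule B (M ⧸ (I • ⊤ : Submodule B M)))) →ₗ[B]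
      ((M ⧸ (J • ⊤ : Submodule B M)) ⧸ (I • ⊤ : Submodule B (M ⧸ (J • ⊤ : Submodule B M)))) :=
  Submodule.liftQ _ (Submodule.liftQ _
      ((I • ⊤ : Submodule B (M ⧸ (J • ⊤ : Submodule B M))).mkQ ∘ₗ (J • ⊤ : Submodule B M).mkQ)
      (by
        intro x hx
        rw [LinearMap.mem_ker, LinearMap.comp_apply, Submodule.mkQ_apply,
          Submodule.Quotient.mk_eq_zero]
        have := Submodule.mem_map_of_mem (f := (J • ⊤ : Submodule B M).mkQ) hx
        rw [Submodule.map_smul''] at this
        exact Submodule.smul_mono le_rfl le_top this))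
    (by
      intro x hx
      refine Submodule.smul_induction_on hx (fun r hr y _ => ?_) (fun a b ha hb => add_mem ha hb)
      obtain ⟨y, rfl⟩ := Submodule.Quotient.mk_surjective _ y
      rw [LinearMap.mem_ker, map_smul, Submodule.liftQ_apply, LinearMap.comp_apply,
        Submodule.mkQ_apply, Submodule.mkQ_apply, ← Submodule.Quotient.mk_smul,
        ← Submodule.Quotient.mk_smul, (Submodule.Quotient.mk_eq_zero _).2
          (Submodule.smul_mem_smul hr Submodule.mem_top : r • y ∈ (J • ⊤ : Submodule B M))]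
      rfl)

noncomputable def quotComm (I J : Ideal B) :
    ((M ⧸ (I • ⊤ : Submodule B M)) ⧸ (J • ⊤ : Submodule B (M ⧸ (I • ⊤ : Submodule B M)))) ≃ₗ[B]
      ((M ⧸ (J • ⊤ : Submodule B M)) ⧸ (I • ⊤ : Submodule B (M ⧸ (J • ⊤ : Submodule B M)))) :=
  LinearEquiv.ofLinearMap (quotCommHom I J) (quotCommHom J I)
    (by ext x; rfl) (by ext x; rfl)

noncomputable def quotSMulTopEquiv (f : B) :
    QuotSMulTop f M ≃ₗ[B] M ⧸ (Ideal.span {f} • ⊤ : Submodule B M) :=
  Submodule.quotEquivOfEq _ _ (Submodule.ideal_span_singleton_smul f ⊤).symm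

/-- `(M/fM)/I(M/fM) ≅ (M/IM)/f(M/IM)`. -/
noncomputable def quotSMulTopQuotEquiv (f : B) (I : Ideal B) :
    ((QuotSMulTop f M) ⧸ (I • ⊤ : Submodule B (QuotSMulTop f M))) ≃ₗ[B]
      QuotSMulTop f (M ⧸ (I • ⊤ : Submodule B M)) :=
  (Submodule.Quotient.equiv (I • ⊤ : Submodule B (QuotSMulTop f M))
    (I • ⊤ : Submodule B (M ⧸ (Ideal.span {f} • ⊤ : Submodule B M))) (quotSMulTopEquiv f)
      (by rw [Submodule.map_smul'', Submodule.map_top, LinearEquiv.range])) ≪≫ₗ
    quotComm (Ideal.span {f}) I ≪≫ₗ (quotSMulTopEquiv f).symm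

end

section

variable {A B : Type u} [CommRing A] [CommRing B] [IsLocalRing A] [IsLocalRing B] [IsNoetherianRing A]
  [IsNoetherianRing B] [Algebra A B] [IsLocalHom (algebraMap A B)]
  {M : Type u} [AddCommGroup M] [Module B M] [Module A M] [IsScalarTower A B M] [Module.Finite B M]

omit [IsNoetherianRing A] in
/-- An element regular on the closed fibre of a flat module is regular and has a flat cokernel. -/
theorem isSMulRegular_and_flat [Module.Flat A M] (f : B)
    (hf : IsSMulRegular
      (M ⧸ ((IsLocalRing.maximalIdeal A).map (algebraMap A B) • ⊤ : Submodule B M)) f) :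
    IsSMulRegular M f ∧ Module.Flat A (QuotSMulTop f M) := by
  let u : M →ₗ[A] M := (LinearMap.lsmul B M f).restrictScalars A
  have hu := LocFlat.injective_and_flat_of_residue (S := B) u
    (LocFlat.lTensor_residue_injective u fun x hx => by
      rw [LocFlat.mem_smul_top_iff (S := B)] at hx ⊢
      rw [← Submodule.Quotient.mk_eq_zero] at hx ⊢
      exact hf (hx.trans (smul_zero f).symm))
  haveI := hu.2
  refine ⟨hu.1, Module.Flat.of_linearEquiv (M := M ⧸ LinearMap.range u) ?_⟩
  refine LinearEquiv.symm ((Submodule.quotEquivOfEq _ ((f • ⊤ : Submodule B M).restrictScalars A) ?_).trans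
    (Submodule.Quotient.restrictScalarsEquiv A (f • ⊤ : Submodule B M)))
  ext x
  simp [u, Submodule.mem_smul_pointwise_iff_exists]

/-- A module is flat if it has a regular element in the maximal ideal with flat cokernel. -/
theorem flat_of_flat_quotSMulTop (f : B) (hfm : f ∈ IsLocalRing.maximalIdeal B)
    (hf : IsSMulRegular M f) [Module.Flat A (QuotSMulTop f M)] : Module.Flat A M := by
  refine LocFlat.flat_of_maximalIdeal (S := B) ?_
  let m := IsLocalRing.maximalIdeal A
  haveI : Module.Finite B (M ⊗[A] m) := by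
    classical
    obtain ⟨n, g, hg⟩ := Module.Finite.exists_fin' A m
    exact Module.Finite.of_surjective
      ((AlgebraTensorModule.lTensor B M g) ∘ₗ (TensorProduct.piScalarRight A B M (Fin n)).symm.toLinearMap)
      ((LinearMap.lTensor_surjective M hg).comp (TensorProduct.piScalarRight A B M (Fin n)).symm.surjective)
  let θ : M ⊗[A] m →ₗ[B] M ⊗[A] A := AlgebraTensorModule.lTensor B M m.subtype
  change Function.Injective θ
  rw [← LinearMap.ker_eq_bot]
  refine Submodule.eq_bot_of_le_smul_of_le_jacobson_bot (Ideal.span {f}) _ (IsNoetherian.noetherian _) ?_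
    ((Ideal.span_singleton_le_iff_mem _).2 (by
      rw [IsLocalRing.jacobson_eq_maximalIdeal ⊥ bot_ne_top]; exact hfm))
  intro z hz
  let q : M →ₗ[A] QuotSMulTop f M := (Submodule.mkQ (f • ⊤ : Submodule B M)).restrictScalars A
  have hq : Function.Surjective q := Submodule.mkQ_surjective _
  have hex : Function.Exact ((LinearMap.lsmul B M f).restrictScalars A) q := fun x => by
    simp [q, Submodule.mem_smul_pointwise_iff_exists]
  have hz0 : q.rTensor m z = 0 := by
    apply Module.Flat.lTensor_preserves_injective_linearMap (M := QuotSMulTop f M) m.subtype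
      m.injective_subtype
    rw [map_zero, ← LinearMap.comp_apply, LinearMap.lTensor_comp_rTensor,
      ← LinearMap.rTensor_comp_lTensor, LinearMap.comp_apply]
    rw [LinearMap.mem_ker] at hz
    rw [show (LinearMap.lTensor M m.subtype) z = θ z from rfl, hz, map_zero]
  obtain ⟨w, hw⟩ := (rTensor_exact m hex hq z).1 hz0
  have hfw : f • w = z := by
    rw [← hw]
    clear hw hz0 hz
    induction w with
    | zero => simp
    | tmul x y => rfl
    | add x y hx hy => rw [smul_add, hx, hy, map_add]
  rw [← hfw]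
  refine Submodule.smul_mem_smul (Ideal.mem_span_singleton_self f) (LinearMap.mem_ker.2 ?_)
  have h0 : f • θ w = 0 := by rw [← map_smul, hfw]; exact hz
  have h1 : IsSMulRegular (M ⊗[A] A) f :=
    (AlgebraTensorModule.rid A B M).isSMulRegular_congr f |>.2 hf
  exact h1 (h0.trans (smul_zero f).symm)

end

/-- If `fs` is weakly regular on `M` then `(fs) ⊗ M → M` is injective. -/
theorem rTensor_injective_of_isWeaklyRegular {A : Type u} [CommRing A] {M : Type u} [AddCommGroup M]
    [Module A M] (fs : List A) (h : IsWeaklyRegular M fs) :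
    Function.Injective ((Ideal.ofList fs).subtype.rTensor M) := by
  induction fs using List.reverseRecOn with
  | nil =>
    have : ∀ x : (Ideal.ofList ([] : List A)), x = 0 := fun x => Subtype.ext (by
      have := x.2
      simpa [Ideal.ofList_nil] using this)
    intro a b _
    have hz : ∀ c : (Ideal.ofList ([] : List A)) ⊗[A] M, c = 0 := fun c => by
      induction c with
      | zero => rfl
      | tmul x y => rw [this x, zero_tmul]
      | add x y hx hy => rw [hx, hy, add_zero]
    rw [hz a, hz b]
  | append_singleton l g ih =>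
    rw [isWeaklyRegular_append_iff, isWeaklyRegular_singleton_iff] at h
    have hJ := ih h.1
    set J := Ideal.ofList l
    set I := Ideal.ofList (l ++ [g]) with hI
    have hIJ : I = J ⊔ Ideal.span {g} := by rw [hI, Ideal.ofList_append, Ideal.ofList_singleton]
    have hle : J ≤ I := hIJ ▸ le_sup_left
    have hgI : g ∈ I := hIJ ▸ (le_sup_right : _ ≤ J ⊔ Ideal.span {g}) (Ideal.mem_span_singleton_self g)
    let ι := (Submodule.inclusion hle).rTensor M
    let g' : I := ⟨g, hgI⟩
    have hgen : ∀ z : I ⊗[A] M, ∃ w a, z = ι w + g' ⊗ₜ[A] a := by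
      intro z
      induction z with
      | zero => exact ⟨0, 0, by simp⟩
      | tmul x y =>
        obtain ⟨p, hp, c, hc⟩ : ∃ p ∈ J, ∃ c, p + c * g = x.1 := by
          have := hIJ.le x.2
          rw [Submodule.mem_sup] at this
          obtain ⟨p, hp, r, hr, hpr⟩ := this
          obtain ⟨c, rfl⟩ := Ideal.mem_span_singleton'.1 hr
          exact ⟨p, hp, c, hpr⟩
        refine ⟨(⟨p, hp⟩ : J) ⊗ₜ[A] y, c • y, ?_⟩
        rw [LinearMap.rTensor_tmul, tmul_smul, smul_tmul', ← add_tmul]
        congr 1
        exact Subtype.ext hc.symm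
      | add x y hx hy =>
        obtain ⟨w, a, rfl⟩ := hx
        obtain ⟨w', a', rfl⟩ := hy
        exact ⟨w + w', a + a', by rw [map_add, tmul_add]; abel⟩
    have habs : ∀ a ∈ (J • ⊤ : Submodule A M), ∃ w, ι w = g' ⊗ₜ[A] a := by
      intro a ha
      refine Submodule.smul_induction_on ha (fun j hj y _ => ?_) (fun p q hp hq => ?_)
      · refine ⟨(⟨g * j, J.mul_mem_left g hj⟩ : J) ⊗ₜ[A] y, ?_⟩
        rw [LinearMap.rTensor_tmul, tmul_smul, smul_tmul']
        congr 1
        exact Subtype.ext (mul_comm g j)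
      · obtain ⟨w, hw⟩ := hp
        obtain ⟨w', hw'⟩ := hq
        exact ⟨w + w', by rw [map_add, hw, hw', tmul_add]⟩
    have hjmem : ∀ w : J ⊗[A] M, TensorProduct.lid A M (J.subtype.rTensor M w) ∈ (J • ⊤ : Submodule A M) := by
      intro w
      induction w with
      | zero => simp
      | tmul x y => simpa using Submodule.smul_mem_smul x.2 (Submodule.mem_top (x := y))
      | add x y hx hy => rw [map_add, map_add]; exact add_mem hx hy
    have hcomp : ∀ w, I.subtype.rTensor M (ι w) = J.subtype.rTensor M w := fun w => by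
      rw [← LinearMap.rTensor_comp_apply]; rfl
    rw [injective_iff_map_eq_zero]
    intro z hz
    obtain ⟨w, a, rfl⟩ := hgen z
    have hz' := congrArg (TensorProduct.lid A M) hz
    rw [map_add, hcomp, map_zero, map_add, LinearMap.rTensor_tmul, TensorProduct.lid_tmul] at hz'
    have hga : g • a ∈ (J • ⊤ : Submodule A M) := by
      rw [show g • a = I.subtype g' • a from rfl, eq_neg_of_add_eq_zero_right hz']
      exact neg_mem (hjmem w)
    have ha : a ∈ (J • ⊤ : Submodule A M) := by
      rw [← Submodule.Quotient.mk_eq_zero] at hga ⊢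
      exact h.2 ((Submodule.Quotient.mk_smul _ g a).symm.trans (hga.trans (smul_zero g).symm))
    obtain ⟨w', hw'⟩ := habs a ha
    rw [← hw', ← map_add] at hz ⊢
    rw [hcomp] at hz
    rw [(injective_iff_map_eq_zero _).1 hJ _ hz, map_zero]

/-- If `M/N` is flat then `N ∩ I M = I N`. -/
theorem inf_smul_le_of_flat_quotient {A : Type u} [CommRing A] {M : Type u} [AddCommGroup M]
    [Module A M] (N : Submodule A M) [Module.Flat A (M ⧸ N)] (I : Ideal A) :
    N ⊓ I • ⊤ ≤ I • N := by
  intro x ⟨hxN, hxI⟩
  have hinj := LinearMap.lTensor_injective_of_exact_of_flat N.mkQ N.mkQ_surjective N.subtype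
    N.injective_subtype (LinearMap.exact_subtype_mkQ N) (A ⧸ I)
  have h2 : (N.subtype.lTensor (A ⧸ I)) (1 ⊗ₜ ⟨x, hxN⟩) = 0 := by
    rw [LinearMap.lTensor_tmul]
    apply (TensorProduct.quotTensorEquivQuotSMul M I).injective
    rw [map_zero, ← map_one (Ideal.Quotient.mk I), TensorProduct.quotTensorEquivQuotSMul_mk_tmul, one_smul]
    exact (Submodule.Quotient.mk_eq_zero _).2 hxI
  have h3 : (1 : A ⧸ I) ⊗ₜ[A] (⟨x, hxN⟩ : N) = 0 := hinj (h2.trans (map_zero _).symm)
  have h4 := congrArg (TensorProduct.quotTensorEquivQuotSMul N I) h3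
  rw [map_zero, ← map_one (Ideal.Quotient.mk I), TensorProduct.quotTensorEquivQuotSMul_mk_tmul,
    one_smul, Submodule.Quotient.mk_eq_zero] at h4
  have h5 := Submodule.mem_map_of_mem (f := N.subtype) h4
  rwa [Submodule.map_smul'', Submodule.map_top, Submodule.range_subtype] at h5

end Groth.Agent.FlatSeqLib
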