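import Groth.Agent.FlatSeqLib.Basic
import Groth.Agent.FlatLocus.FibreCritMod

/-!
# Fibrewise regular sequences on finitely presented modules, without Noetherian hypotheses
-/

set_option autoImplicit false
set_option linter.style.haveILetI false
set_option backward.isDefEq.respectTransparency false
set_option quotPrecheck false

universe u

open TensorProduct Polynomial RingTheory.Sequence Pointwise

namespace Groth.Agent.FlatSeqLib

variable {A B : Type u} [CommRing A] [CommRing B] [Algebra A B]
  (q : Ideal B) [q.IsPrime]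

local notation "pB" => (Ideal.comap (algebraMap A B) q).map (algebraMap A B)
local notation "Lq" => LocalizedModule q.primeCompl

/-- An element of `q` that is regular on the fibre is regular and has flat cokernel. -/
theorem isSMulRegular_and_flat_fp [Algebra.FinitePresentation A B] (M : Type u) [AddCommGroup M] [Module B M]
    [Module A M] [IsScalarTower A B M] [Module.FinitePresentation B M] (g : B) (hg : g ∈ q)
    [Module.Flat A (Lq M)]
    (hf : IsSMulRegular (Lq M ⧸ (pB • ⊤ : Submodule B (Lq M))) g) :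
    IsSMulRegular (Lq M) g ∧ Module.Flat A (QuotSMulTop g (Lq M)) := by
  letI : Algebra A[X] B := (aeval g).toRingHom.toAlgebra
  haveI : IsScalarTower A A[X] B := .of_algebraMap_eq fun a => by
    show algebraMap A B a = aeval g (C a)
    rw [aeval_C]
  letI : Module A[X] M := Module.compHom M (aeval g).toRingHom
  haveI : IsScalarTower A[X] B M := .of_algebraMap_smul fun _ _ => rfl
  haveI : IsScalarTower A A[X] M := .of_algebraMap_smul fun a m => by
    show aeval g (C a) • m = a • m
    rw [aeval_C, algebraMap_smul]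
  haveI : Algebra.FinitePresentation A[X] B :=
    Algebra.FinitePresentation.of_restrict_scalars_finitePresentation A A[X] B
  let p : Ideal A := Ideal.comap (algebraMap A B) q
  have hXsmul : ∀ n : Lq M, (X : A[X]) • n = g • n := fun n => by
    rw [← algebraMap_smul B (X : A[X]) n]
    congr 1
    exact aeval_X g
  have hflat : Module.Flat A[X] (Lq M) := by
    refine FlatLocus.flat_of_lTensor_injective_fp q ?_
    set J : Ideal A[X] := q.comap (algebraMap A[X] B) with hJ
    have hC : ∀ a ∈ p, C a ∈ J := fun a ha => by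
      show aeval g (C a) ∈ q
      rw [aeval_C]; exact ha
    let j : p →ₗ[A] J := LinearMap.codRestrict (J.restrictScalars A)
      ((Algebra.linearMap A A[X]) ∘ₗ p.subtype) fun a => hC a a.2
    let ψ : Lq M ⊗[A] p →ₗ[A] Lq M ⊗[A[X]] J :=
      TensorProduct.lift (LinearMap.mk₂ A (fun n a => n ⊗ₜ[A[X]] j a)
        (fun n n' a => add_tmul n n' _) (fun r n a => (smul_tmul' r n _).symm)
        (fun n a a' => by rw [map_add, tmul_add]) (fun r n a => by rw [map_smul, tmul_smul]))
    let Xj : J := ⟨X, by show aeval g (X : A[X]) ∈ q; rw [aeval_X]; exact hg⟩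
    have hdec : ∀ z : Lq M ⊗[A[X]] J, ∃ w m, z = ψ w + m ⊗ₜ Xj := fun z => by
      induction z using TensorProduct.induction_on with
      | zero => exact ⟨0, 0, by simp⟩
      | add x y hx hy =>
        obtain ⟨w, m, rfl⟩ := hx
        obtain ⟨w', m', rfl⟩ := hy
        exact ⟨w + w', m + m', by rw [map_add, add_tmul]; abel⟩
      | tmul n f =>
        have ha : f.1.coeff 0 ∈ p := by
          show algebraMap A B _ ∈ q
          have h1 : aeval g f.1 ∈ q := f.2
          rw [← X_mul_divX_add f.1, map_add, map_mul, aeval_X, aeval_C] at h1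
          exact (Ideal.add_mem_iff_right q (Ideal.mul_mem_right _ _ hg)).1 h1
        refine ⟨n ⊗ₜ ⟨_, ha⟩, f.1.divX • n, ?_⟩
        show n ⊗ₜ[A[X]] f = n ⊗ₜ[A[X]] j ⟨_, ha⟩ + _
        rw [smul_tmul, ← tmul_add]
        congr 1
        refine Subtype.ext ?_
        show f.1 = C (f.1.coeff 0) + f.1.divX * X
        rw [add_comm, divX_mul_X_add]
    let ev : Lq M ⊗[A[X]] J →ₗ[A[X]] Lq M :=
      (TensorProduct.rid A[X] (Lq M)).toLinearMap ∘ₗ J.subtype.lTensor (Lq M)
    suffices hinj : Function.Injective ev from Function.Injective.of_comp (f := TensorProduct.rid A[X] (Lq M)) hinj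
    let evA : Lq M ⊗[A] p →ₗ[A] Lq M := (TensorProduct.rid A (Lq M)).toLinearMap ∘ₗ p.subtype.lTensor (Lq M)
    have hev : ∀ w, ev (ψ w) = evA w := fun w => by
      induction w using TensorProduct.induction_on with
      | zero => simp
      | add x y hx hy => simp [hx, hy]
      | tmul n a =>
        show algebraMap A A[X] a.1 • n = a.1 • n
        rw [algebraMap_smul]
    have hevA : ∀ w, evA w ∈ (pB • ⊤ : Submodule B (Lq M)) := fun w => by
      induction w using TensorProduct.induction_on with
      | zero => simp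
      | add x y hx hy => rw [map_add]; exact add_mem hx hy
      | tmul n a =>
        show a.1 • n ∈ _
        rw [← algebraMap_smul B a.1 n]
        exact Submodule.smul_mem_smul (Ideal.mem_map_of_mem _ a.2) Submodule.mem_top
    rw [injective_iff_map_eq_zero]
    intro z hz
    obtain ⟨w, m, rfl⟩ := hdec z
    have h0 : evA w + g • m = 0 := by
      rw [← hev, ← hXsmul, ← hz, map_add]
      rfl
    have hm : m ∈ (pB • ⊤ : Submodule B (Lq M)) := by
      rw [← Submodule.Quotient.mk_eq_zero]
      refine hf ?_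
      show g • Submodule.Quotient.mk m = g • 0
      rw [smul_zero, ← Submodule.Quotient.mk_smul, Submodule.Quotient.mk_eq_zero, eq_neg_of_add_eq_zero_right h0]
      exact neg_mem (hevA w)
    obtain ⟨w', hw'⟩ : ∃ w', m ⊗ₜ[A[X]] Xj = ψ w' := by
      refine Submodule.smul_induction_on hm (fun b hb n _ => ?_) fun x y hx hy => ?_
      · induction hb using Submodule.span_induction generalizing n with
        | mem b hb =>
          obtain ⟨a, ha, rfl⟩ := hb
          refine ⟨((X : A[X]) • n) ⊗ₜ ⟨a, ha⟩, ?_⟩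
          show _ = ((X : A[X]) • n) ⊗ₜ[A[X]] j ⟨a, ha⟩
          rw [algebraMap_smul, ← algebraMap_smul A[X] a n, smul_tmul, smul_tmul]
          congr 1
          refine Subtype.ext ?_
          show C a * X = X * C a
          exact mul_comm _ _
        | zero => exact ⟨0, by simp⟩
        | add b b' _ _ h h' =>
          obtain ⟨u, hu⟩ := h n trivial
          obtain ⟨u', hu'⟩ := h' n trivial
          exact ⟨u + u', by rw [add_smul, add_tmul, hu, hu', map_add]⟩
        | smul c b _ h =>
          obtain ⟨u, hu⟩ := h (c • n) trivial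
          refine ⟨u, ?_⟩
          rw [← hu, smul_eq_mul, mul_comm, mul_smul]
      · obtain ⟨u, hu⟩ := hx
        obtain ⟨u', hu'⟩ := hy
        exact ⟨u + u', by rw [add_tmul, hu, hu', map_add]⟩
    rw [hw', ← map_add] at hz ⊢
    rw [hev] at hz
    have : w + w' = 0 := (Module.Flat.lTensor_preserves_injective_linearMap (M := Lq M) p.subtype
      p.subtype_injective) (by
        rw [map_zero]
        exact (LinearEquiv.map_eq_zero_iff (TensorProduct.rid A (Lq M))).1 hz)
    rw [this, map_zero]
  refine ⟨fun x y hxy => ?_, ?_⟩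
  · refine Module.Flat.isSMulRegular_of_nonZeroDivisors (R := A[X]) (M := Lq M) (r := X)
      monic_X.mem_nonZeroDivisors ?_
    simp only [hXsmul]; exact hxy
  · let I : Ideal A[X] := Ideal.span {X}
    haveI := FlatLocus.flat_quotient_of_flat (M := Lq M) I
    haveI : Module.Flat A (A[X] ⧸ I) := Module.Flat.of_linearEquiv
      ((Ideal.quotientEquivAlgOfEq A (show I = Ideal.span {X - C (0 : A)} by simp [I])).trans
        (quotientSpanXSubCAlgEquiv (0 : A))).toLinearEquiv
    haveI : Module.Flat A (Lq M ⧸ (I • ⊤ : Submodule A[X] (Lq M))) := Module.Flat.trans A (A[X] ⧸ I) _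
    refine Module.Flat.of_linearEquiv (M := Lq M ⧸ (I • ⊤ : Submodule A[X] (Lq M)))
      (LinearEquiv.symm (((Submodule.quotEquivOfEq _ ((g • ⊤ : Submodule B (Lq M)).restrictScalars A[X]) ?_).restrictScalars A).trans
        ((Submodule.Quotient.restrictScalarsEquiv A[X] (g • ⊤ : Submodule B (Lq M))).restrictScalars A)))
    ext x
    simp [I, Submodule.ideal_span_singleton_smul, Submodule.mem_smul_pointwise_iff_exists, hXsmul]

/-- Localisation commutes with reduction modulo an ideal. -/
theorem nonempty_locQuot {M : Type u} [AddCommGroup M] [Module B M] (T : Submonoid B) (I : Ideal B) :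
    Nonempty (LocalizedModule T (M ⧸ (I • ⊤ : Submodule B M)) ≃ₗ[B]
      LocalizedModule T M ⧸ (I • ⊤ : Submodule B (LocalizedModule T M))) := by
  let mk := LocalizedModule.mkLinearMap T M
  haveI : IsLocalizedModule T (mk.rTensor (B ⧸ I)) := IsLocalizedModule.rTensor (R := B) (A := B) (S := T) mk
  let e₁ := TensorProduct.tensorQuotEquivQuotSMul M I
  let e₂ := TensorProduct.tensorQuotEquivQuotSMul (LocalizedModule T M) I
  haveI : IsLocalizedModule T (e₂.toLinearMap ∘ₗ mk.rTensor (B ⧸ I)) := IsLocalizedModule.of_linearEquiv _ _ _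
  haveI : IsLocalizedModule T ((e₂.toLinearMap ∘ₗ mk.rTensor (B ⧸ I)) ∘ₗ e₁.symm.toLinearMap) :=
    IsLocalizedModule.of_linearEquiv_right _ _ _
  exact ⟨IsLocalizedModule.iso T ((e₂.toLinearMap ∘ₗ mk.rTensor (B ⧸ I)) ∘ₗ e₁.symm.toLinearMap)⟩

/-- A sequence in `q` that is regular on the fibre is regular and has flat cokernels. -/
theorem isWeaklyRegular_and_flat_fp [Algebra.FinitePresentation A B] (gs : List B) :
    ∀ (M : Type u) [AddCommGroup M] [Module B M] [Module A M] [IsScalarTower A B M] [Module.FinitePresentation B M]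
      [Module.Flat A (Lq M)], (∀ b ∈ gs, b ∈ q) → IsWeaklyRegular (Lq M ⧸ (pB • ⊤ : Submodule B (Lq M))) gs →
      IsWeaklyRegular (Lq M) gs ∧
        ∀ i, Module.Flat A (Lq M ⧸ (Ideal.ofList (gs.take i) • ⊤ : Submodule B (Lq M))) := by
  induction gs with
  | nil =>
    intro M _ _ _ _ _ _ _ _
    refine ⟨IsWeaklyRegular.nil _ _, fun i => ?_⟩
    exact Module.Flat.of_linearEquiv ((Submodule.quotEquivOfEqBot _ (by simp)).restrictScalars A)
  | cons g gs ih =>
    intro M _ _ _ _ _ _ hm h
    rw [isWeaklyRegular_cons_iff] at h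
    obtain ⟨hreg, hfl⟩ := isSMulRegular_and_flat_fp q M g (hm g List.mem_cons_self) h.1
    let I : Ideal B := Ideal.span {g}
    haveI : Module.FinitePresentation B (M ⧸ (I • ⊤ : Submodule B M)) :=
      Module.finitePresentation_of_surjective (Submodule.mkQ _) (Submodule.mkQ_surjective _)
        (by rw [Submodule.ker_mkQ]; exact Submodule.FG.smul (Submodule.fg_span_singleton g) Module.Finite.fg_top)
    obtain ⟨e₀⟩ := nonempty_locQuot q.primeCompl I (M := M)
    let e : Lq (M ⧸ (I • ⊤ : Submodule B M)) ≃ₗ[B] QuotSMulTop g (Lq M) := e₀.trans (quotSMulTopEquiv g).symm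
    haveI := hfl
    haveI : Module.Flat A (Lq (M ⧸ (I • ⊤ : Submodule B M))) := Module.Flat.of_linearEquiv (e.restrictScalars A)
    have hmap : ∀ J : Ideal B, Submodule.map e.toLinearMap (J • ⊤ : Submodule B _) = J • ⊤ := fun J => by
      rw [Submodule.map_smul'', Submodule.map_top, LinearEquiv.range]
    have h2 : IsWeaklyRegular (Lq (M ⧸ (I • ⊤ : Submodule B M)) ⧸
        (pB • ⊤ : Submodule B (Lq (M ⧸ (I • ⊤ : Submodule B M))))) gs :=
      (((Submodule.Quotient.equiv _ _ e (hmap _)).trans (quotSMulTopQuotEquiv g _)).isWeaklyRegular_congr gs).2 h.2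
    obtain ⟨hw, hq⟩ := ih (M ⧸ (I • ⊤ : Submodule B M)) (fun b hb => hm b (List.mem_cons_of_mem _ hb)) h2
    refine ⟨(isWeaklyRegular_cons_iff _ _ _).2 ⟨hreg, (e.isWeaklyRegular_congr gs).1 hw⟩, fun i => ?_⟩
    rcases i with _ | i
    · exact Module.Flat.of_linearEquiv ((Submodule.quotEquivOfEqBot _ (by simp)).restrictScalars A)
    · haveI := hq i
      exact Module.Flat.of_linearEquiv
        (((Submodule.quotOfListConsSMulTopEquivQuotSMulTopInner (Lq M) g (gs.take i)).trans
          (Submodule.Quotient.equiv _ _ e (hmap _)).symm).restrictScalars A)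

/-- The localisation of the fibre module is the fibre of the localisation. -/
theorem nonempty_fibreEquiv (M : Type u) [AddCommGroup M] [Module B M] [Module A M] [IsScalarTower A B M] :
    Nonempty ((Lq M ⧸ (pB • ⊤ : Submodule B (Lq M))) ≃ₗ[B]
      Lq (M ⊗[A] (Ideal.comap (algebraMap A B) q).ResidueField)) := by
  let p : Ideal A := Ideal.comap (algebraMap A B) q
  let κ := p.ResidueField
  let π : M →ₗ[B] M ⊗[A] κ := (AlgebraTensorModule.mk A B M κ).flip 1
  let σ : Lq M →ₗ[B] Lq (M ⊗[A] κ) :=
    IsLocalizedModule.map q.primeCompl (LocalizedModule.mkLinearMap _ _) (LocalizedModule.mkLinearMap _ _) π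
  have hmkσ : ∀ x, σ (LocalizedModule.mkLinearMap _ _ x) = LocalizedModule.mkLinearMap _ _ (π x) :=
    fun x => IsLocalizedModule.map_apply _ _ _ π x
  have hpz : ∀ a ∈ p, ∀ z : M ⊗[A] κ, algebraMap A B a • z = 0 := fun a ha z => by
    induction z using TensorProduct.induction_on with
    | zero => rw [smul_zero]
    | add x y hx hy => rw [smul_add, hx, hy, add_zero]
    | tmul m k =>
      rw [algebraMap_smul, ← tmul_smul, Algebra.smul_def, Ideal.algebraMap_residueField_eq_zero.2 ha, zero_mul,
        tmul_zero]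
  have hker0 : (pB • ⊤ : Submodule B (Lq M)) ≤ LinearMap.ker σ := by
    rw [Submodule.smul_le]
    intro b hb n _
    rw [LinearMap.mem_ker, map_smul]
    induction hb using Submodule.span_induction with
    | mem b hb =>
      obtain ⟨a, ha, rfl⟩ := hb
      obtain ⟨⟨z, s⟩, hz⟩ := IsLocalizedModule.surj q.primeCompl (LocalizedModule.mkLinearMap q.primeCompl (M ⊗[A] κ)) (σ n)
      refine IsLocalizedModule.smul_injective (LocalizedModule.mkLinearMap q.primeCompl (M ⊗[A] κ)) s ?_
      show s • (algebraMap A B a • σ n) = s • 0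
      rw [smul_comm, hz, ← map_smul, hpz a ha, map_zero, smul_zero]
    | zero => rw [zero_smul]
    | add x y _ _ hx hy => rw [add_smul, hx, hy, add_zero]
    | smul c x _ hx => rw [smul_eq_mul, mul_smul, hx, smul_zero]
  -- `κ` is the localisation of `A ⧸ p`
  let g₀ : (A ⧸ p) →ₗ[A] κ := (IsScalarTower.toAlgHom A (A ⧸ p) κ).toLinearMap
  haveI : IsLocalizedModule p.primeCompl g₀ :=
    { map_units := fun s => by
        refine (Module.End.isUnit_iff _).2 ?_
        have hs : algebraMap A κ s ≠ 0 := fun h => s.2 (Ideal.algebraMap_residueField_eq_zero.1 h)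
        refine ⟨fun x y hxy => mul_left_cancel₀ hs ?_, fun y => ⟨(algebraMap A κ s)⁻¹ * y, ?_⟩⟩
        · simpa [Algebra.smul_def] using hxy
        · show s.1 • ((algebraMap A κ s.1)⁻¹ * y) = y
          rw [Algebra.smul_def, ← mul_assoc, mul_inv_cancel₀ hs, one_mul]
      surj := fun y => by
        obtain ⟨⟨x, d⟩, hd⟩ := IsLocalization.surj (nonZeroDivisors (A ⧸ p)) y
        obtain ⟨s, hs⟩ := Ideal.Quotient.mk_surjective d.1
        refine ⟨⟨x, ⟨s, fun h => nonZeroDivisors.ne_zero d.2 (hs ▸ Ideal.Quotient.eq_zero_iff_mem.2 h)⟩⟩, ?_⟩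
        show s • y = algebraMap (A ⧸ p) κ x
        rw [← hd, ← hs, Algebra.smul_def, mul_comm]
        rfl
      exists_of_eq := fun {x y} h => ⟨1, by rw [one_smul, one_smul]; exact IsFractionRing.injective (A ⧸ p) κ h⟩ }
  haveI : IsLocalizedModule p.primeCompl (g₀.rTensor M) :=
    IsLocalizedModule.rTensor (R := A) (A := A) (S := p.primeCompl) g₀
  have hsmulq : ∀ s ∈ p.primeCompl, algebraMap A B s ∈ q.primeCompl := fun s hs => hs
  have hker : LinearMap.ker σ ≤ (pB • ⊤ : Submodule B (Lq M)) := by
    intro n hn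
    obtain ⟨⟨x, t⟩, ht⟩ := IsLocalizedModule.surj q.primeCompl (LocalizedModule.mkLinearMap q.primeCompl M) n
    have h1 : LocalizedModule.mkLinearMap q.primeCompl _ (π x) = 0 := by
      rw [← hmkσ, ← ht, Submonoid.smul_def, map_smul, LinearMap.mem_ker.1 hn, smul_zero]
    obtain ⟨c, hc⟩ := (IsLocalizedModule.eq_zero_iff q.primeCompl _).1 h1
    rw [Submonoid.smul_def, ← map_smul] at hc
    have h2 : (g₀.rTensor M) ((1 : A ⧸ p) ⊗ₜ[A] (c.1 • x)) = 0 := by
      have h := congrArg (TensorProduct.comm A M κ) hc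
      rw [map_zero] at h
      rw [LinearMap.rTensor_tmul, ← h]
      show algebraMap (A ⧸ p) κ 1 ⊗ₜ[A] (c.1 • x) = (1 : κ) ⊗ₜ[A] (c.1 • x)
      rw [map_one]
    obtain ⟨s, hs⟩ := (IsLocalizedModule.eq_zero_iff p.primeCompl _).1 h2
    have h3 := congrArg (TensorProduct.quotTensorEquivQuotSMul M p) hs
    rw [map_zero, Submonoid.smul_def, ← tmul_smul, ← map_one (Ideal.Quotient.mk p),
      quotTensorEquivQuotSMul_mk_tmul, one_smul, Submodule.Quotient.mk_eq_zero] at h3
    have h4 : s.1 • (c.1 • x) ∈ (p • ⊤ : Submodule A M) := h3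
    have h5 : s.1 • (c.1 • x) ∈ (pB • ⊤ : Submodule B M) :=
      Submodule.smul_induction_on h4 (fun a ha m _ => by
        rw [← algebraMap_smul B a m]
        exact Submodule.smul_mem_smul (Ideal.mem_map_of_mem _ ha) Submodule.mem_top) fun _ _ => add_mem
    rw [← algebraMap_smul B s.1] at h5
    let u : q.primeCompl := ⟨algebraMap A B s.1 * c.1 * t.1,
      q.primeCompl.mul_mem (q.primeCompl.mul_mem (hsmulq _ s.2) c.2) t.2⟩
    have h6 : u.1 • n ∈ (pB • ⊤ : Submodule B (Lq M)) := by
      have h7 : LocalizedModule.mkLinearMap q.primeCompl M (algebraMap A B s.1 • c.1 • x) ∈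
          (pB • ⊤ : Submodule B (Lq M)) := by
        have h8 := Submodule.mem_map_of_mem (f := LocalizedModule.mkLinearMap q.primeCompl M) h5
        rw [Submodule.map_smul''] at h8
        exact Submodule.smul_mono le_rfl le_top h8
      rwa [map_smul, map_smul, ← ht, Submonoid.smul_def, ← mul_smul, ← mul_smul] at h7
    obtain ⟨v, hv⟩ := ((Module.End.isUnit_iff _).1
      (IsLocalizedModule.map_units (LocalizedModule.mkLinearMap q.primeCompl M) u)).2 n
    -- `u` acts bijectively on the submodule
    refine Submodule.smul_induction_on (p := fun y => ∀ w, u.1 • w = y → w ∈ (pB • ⊤ : Submodule B (Lq M))) h6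
      (fun b hb m _ w hw => ?_) (fun y y' hy hy' w hw => ?_) n rfl
    · obtain ⟨m', hm'⟩ := ((Module.End.isUnit_iff _).1
        (IsLocalizedModule.map_units (LocalizedModule.mkLinearMap q.primeCompl M) u)).2 m
      have hm2 : u.1 • m' = m := hm'
      have : w = b • m' := ((Module.End.isUnit_iff _).1
        (IsLocalizedModule.map_units (LocalizedModule.mkLinearMap q.primeCompl M) u)).1
          (show u.1 • w = u.1 • (b • m') by rw [hw, smul_comm, hm2])
      exact this ▸ Submodule.smul_mem_smul hb Submodule.mem_top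
    · obtain ⟨z, hz⟩ := ((Module.End.isUnit_iff _).1
        (IsLocalizedModule.map_units (LocalizedModule.mkLinearMap q.primeCompl M) u)).2 y
      have hz2 : u.1 • z = y := hz
      have h9 : w - z ∈ (pB • ⊤ : Submodule B (Lq M)) := hy' (w - z) (by rw [smul_sub, hw, hz2, add_sub_cancel_left])
      simpa using add_mem h9 (hy z hz2)
  have hsurj : Function.Surjective σ := fun y => by
    obtain ⟨⟨z, t⟩, ht⟩ := IsLocalizedModule.surj q.primeCompl (LocalizedModule.mkLinearMap q.primeCompl (M ⊗[A] κ)) y
    obtain ⟨s, hsp, m, hm⟩ : ∃ s ∈ p.primeCompl, ∃ m : M, algebraMap A B s • z = π m := by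
      clear ht
      induction z using TensorProduct.induction_on with
      | zero => exact ⟨1, p.primeCompl.one_mem, 0, by simp⟩
      | add x y hx hy =>
        obtain ⟨s, hs, m, hm⟩ := hx
        obtain ⟨s', hs', m', hm'⟩ := hy
        refine ⟨s * s', p.primeCompl.mul_mem hs hs', algebraMap A B s' • m + algebraMap A B s • m', ?_⟩
        rw [smul_add, map_add, map_smul, map_smul, ← hm, ← hm', map_mul, ← mul_smul, ← mul_smul,
          mul_comm (algebraMap A B s') (algebraMap A B s)]
      | tmul m k =>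
        obtain ⟨⟨a, s⟩, has⟩ := IsLocalizedModule.surj p.primeCompl g₀ k
        obtain ⟨a, rfl⟩ := Ideal.Quotient.mk_surjective a
        refine ⟨s.1, s.2, a • m, ?_⟩
        show _ = (a • m) ⊗ₜ[A] (1 : κ)
        rw [algebraMap_smul, ← tmul_smul, ← Submonoid.smul_def, has, smul_tmul]
        congr 1
        show algebraMap (A ⧸ p) κ (Ideal.Quotient.mk p a) = a • (1 : κ)
        rw [Algebra.smul_def, mul_one]
        rfl
    let u : q.primeCompl := ⟨algebraMap A B s * t.1, q.primeCompl.mul_mem (hsmulq _ hsp) t.2⟩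
    obtain ⟨n, hn⟩ := ((Module.End.isUnit_iff _).1
      (IsLocalizedModule.map_units (LocalizedModule.mkLinearMap q.primeCompl M) u)).2
      (LocalizedModule.mkLinearMap _ _ m)
    refine ⟨n, IsLocalizedModule.smul_injective (LocalizedModule.mkLinearMap q.primeCompl (M ⊗[A] κ)) u ?_⟩
    show u • σ n = u • y
    rw [Submonoid.smul_def, ← map_smul, show u.1 • n = _ from hn, hmkσ, ← hm, map_smul]
    show algebraMap A B s • _ = (algebraMap A B s * t.1) • y
    rw [mul_smul, ← Submonoid.smul_def, ht]
  exact ⟨(Submodule.quotEquivOfEq _ _ (le_antisymm hker0 hker)).trans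
    (LinearMap.quotKerEquivOfSurjective σ hsurj)⟩

end Groth.Agent.FlatSeqLib
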