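import Groth.Agent.FlatSeqLib.FinPres
import Groth.Agent.FlatLocus.InjFlat
import Groth.Agent.FlatLocus.Main

/-!
The locus where a sequence is regular on the fibres of a flat module is open.
-/

set_option autoImplicit false
set_option backward.isDefEq.respectTransparency false

universe u

open TensorProduct RingTheory.Sequence Pointwise

namespace Groth.Agent.FlatSeqLib

variable {A B : Type u} [CommRing A] [CommRing B] [Algebra A B] [Algebra.FinitePresentation A B]

/-- The reduction of `LocalizedModule` modulo the pushforward of the base prime. -/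
abbrev LocFibre (A : Type u) [CommRing A] {B : Type u} [CommRing B] [Algebra A B] (q : PrimeSpectrum B)
    (M : Type u) [AddCommGroup M] [Module B M] : Type u :=
  LocalizedModule q.asIdeal.primeCompl M ⧸
    ((Ideal.comap (algebraMap A B) q.asIdeal).map (algebraMap A B) • ⊤ :
      Submodule B (LocalizedModule q.asIdeal.primeCompl M))

theorem isWeaklyRegular_of_subsingleton' {R M : Type u} [CommRing R] [AddCommGroup M] [Module R M] [Subsingleton M]
    (rs : List R) : IsWeaklyRegular M rs :=
  ⟨fun i hi => fun a b _ => Subsingleton.elim _ _⟩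

theorem isOpen_fibre_weaklyRegular (gs : List B) :
    ∀ (M : Type u) [AddCommGroup M] [Module B M] [Module A M] [IsScalarTower A B M] [Module.FinitePresentation B M],
      IsOpen {q : PrimeSpectrum B | Module.Flat A (LocalizedModule q.asIdeal.primeCompl M) ∧
        IsWeaklyRegular (LocFibre A q M) gs} := by
  induction gs with
  | nil =>
    intro M _ _ _ _ _
    simp only [IsWeaklyRegular.nil, and_true]
    exact FlatLocus.isOpen_flat_locus
  | cons g gs ih =>
    intro M _ _ _ _ _
    let I : Ideal B := Ideal.span {g}
    haveI : Module.FinitePresentation B (M ⧸ (I • ⊤ : Submodule B M)) :=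
      Module.finitePresentation_of_surjective (Submodule.mkQ _) (Submodule.mkQ_surjective _)
        (by rw [Submodule.ker_mkQ]; exact Submodule.FG.smul (Submodule.fg_span_singleton g) Module.Finite.fg_top)
    let u : M →ₗ[B] M := LinearMap.lsmul B M g
    have hrange : LinearMap.range u = (I • ⊤ : Submodule B M) := by
      rw [Submodule.ideal_span_singleton_smul]
      ext x
      simp [u, Submodule.mem_smul_pointwise_iff_exists]
    have key : ∀ q : PrimeSpectrum B,
        (∀ m, u m = 0 → ∃ s ∉ q.asIdeal, s • m = 0) ↔
          IsSMulRegular (LocalizedModule q.asIdeal.primeCompl M) g := fun q => by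
      let L := LocalizedModule.mkLinearMap q.asIdeal.primeCompl M
      rw [isSMulRegular_iff_right_eq_zero_of_smul]
      constructor
      · intro h z hz
        obtain ⟨⟨m, s⟩, hs⟩ := IsLocalizedModule.surj q.asIdeal.primeCompl L z
        have h0 : L (g • m) = 0 := by
          rw [map_smul, ← hs, Submonoid.smul_def, smul_comm, hz, smul_zero]
        obtain ⟨t, ht⟩ := (IsLocalizedModule.eq_zero_iff q.asIdeal.primeCompl L).1 h0
        obtain ⟨r, hr, hrm⟩ := h (t.1 • m) (by
          show g • t.1 • m = 0
          rw [smul_comm]; exact ht)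
        have h1 : L m = 0 := (IsLocalizedModule.eq_zero_iff q.asIdeal.primeCompl L).2
          ⟨⟨r, hr⟩ * t, by rw [Submonoid.smul_def, Submonoid.coe_mul, mul_smul]; exact hrm⟩
        exact IsLocalizedModule.smul_injective L s (hs.trans (h1.trans (smul_zero s).symm))
      · intro h m hm
        have h0 : g • L m = 0 := by rw [← map_smul]; exact (congrArg L hm).trans (map_zero L)
        obtain ⟨t, ht⟩ := (IsLocalizedModule.eq_zero_iff q.asIdeal.primeCompl L).1 (h _ h0)
        exact ⟨t.1, t.2, ht⟩
    have hopen : IsOpen ({q : PrimeSpectrum B | Module.Flat A (LocalizedModule q.asIdeal.primeCompl M)} ∩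
        {q : PrimeSpectrum B | (∀ m, u m = 0 → ∃ s ∉ q.asIdeal, s • m = 0) ∧
          Module.Flat A (LocalizedModule q.asIdeal.primeCompl (M ⧸ LinearMap.range u))} ∩
        {q : PrimeSpectrum B | Module.Flat A (LocalizedModule q.asIdeal.primeCompl (M ⧸ (I • ⊤ : Submodule B M))) ∧
          IsWeaklyRegular (LocFibre A q (M ⧸ (I • ⊤ : Submodule B M))) gs}) :=
      (FlatLocus.isOpen_flat_locus.inter (FlatLocus.isOpen_injective_and_flat u)).inter
        (ih (M ⧸ (I • ⊤ : Submodule B M)))
    convert hopen using 1
    ext q
    simp only [Set.mem_inter_iff, Set.mem_ofPred_eq, key]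
    have hfl : Module.Flat A (LocalizedModule q.asIdeal.primeCompl (M ⧸ LinearMap.range u)) ↔
        Module.Flat A (LocalizedModule q.asIdeal.primeCompl (M ⧸ (I • ⊤ : Submodule B M))) := by
      rw [hrange]
    rw [hfl]
    obtain ⟨e₀⟩ := nonempty_locQuot q.asIdeal.primeCompl I (M := M)
    let e := e₀.trans (quotSMulTopEquiv g).symm
    have hmap : ∀ J : Ideal B, Submodule.map e.toLinearMap (J • ⊤ : Submodule B _) = J • ⊤ := fun J => by
      rw [Submodule.map_smul'', Submodule.map_top, LinearEquiv.range]
    have htail : IsWeaklyRegular (LocFibre A q (M ⧸ (I • ⊤ : Submodule B M))) gs ↔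
        IsWeaklyRegular (QuotSMulTop g (LocFibre A q M)) gs :=
      ((Submodule.Quotient.equiv _ _ e (hmap _)).trans (quotSMulTopQuotEquiv g _)).isWeaklyRegular_congr gs
    rw [isWeaklyRegular_cons_iff, htail]
    constructor
    · rintro ⟨hflat, hreg, htl⟩
      haveI := hflat
      by_cases hg : g ∈ q.asIdeal
      · obtain ⟨h1, h2⟩ := isSMulRegular_and_flat_fp q.asIdeal M g hg hreg
        haveI := h2
        have h3 : Module.Flat A (LocalizedModule q.asIdeal.primeCompl (M ⧸ (I • ⊤ : Submodule B M))) :=
          Module.Flat.of_linearEquiv (e.restrictScalars A)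
        exact ⟨⟨hflat, h1, h3⟩, h3, htl⟩
      · have hu : ∀ z : LocalizedModule q.asIdeal.primeCompl M, ∃ w, g • w = z := fun z =>
          ((Module.End.isUnit_iff _).1 (IsLocalizedModule.map_units
            (LocalizedModule.mkLinearMap q.asIdeal.primeCompl M) (⟨g, hg⟩ : q.asIdeal.primeCompl))).2 z
        have h1 : IsSMulRegular (LocalizedModule q.asIdeal.primeCompl M) g :=
          IsLocalizedModule.smul_injective (LocalizedModule.mkLinearMap q.asIdeal.primeCompl M)
            (⟨g, hg⟩ : q.asIdeal.primeCompl)
        haveI : Subsingleton (QuotSMulTop g (LocalizedModule q.asIdeal.primeCompl M)) := by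
          refine Submodule.Quotient.subsingleton_iff.2 (eq_top_iff.2 fun z _ => ?_)
          obtain ⟨w, rfl⟩ := hu z
          exact Submodule.smul_mem_pointwise_smul w g ⊤ trivial
        haveI : Module.Flat A (QuotSMulTop g (LocalizedModule q.asIdeal.primeCompl M)) := inferInstance
        have h3 : Module.Flat A (LocalizedModule q.asIdeal.primeCompl (M ⧸ (I • ⊤ : Submodule B M))) :=
          Module.Flat.of_linearEquiv (e.restrictScalars A)
        exact ⟨⟨hflat, h1, h3⟩, h3, htl⟩
    · rintro ⟨⟨hflat, hreg, hcoker⟩, -, htl⟩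
      refine ⟨hflat, ?_, htl⟩
      haveI : Module.Flat A (QuotSMulTop g (LocalizedModule q.asIdeal.primeCompl M)) :=
        Module.Flat.of_linearEquiv (e.symm.restrictScalars A)
      let N : Submodule A (LocalizedModule q.asIdeal.primeCompl M) :=
        (g • ⊤ : Submodule B (LocalizedModule q.asIdeal.primeCompl M)).restrictScalars A
      haveI : Module.Flat A (LocalizedModule q.asIdeal.primeCompl M ⧸ N) :=
        Module.Flat.of_linearEquiv ((Submodule.Quotient.restrictScalarsEquiv A
          (g • ⊤ : Submodule B (LocalizedModule q.asIdeal.primeCompl M))))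
      rw [isSMulRegular_iff_right_eq_zero_of_smul]
      intro z hz
      obtain ⟨x, rfl⟩ := Submodule.Quotient.mk_surjective _ z
      rw [← Submodule.Quotient.mk_smul, Submodule.Quotient.mk_eq_zero, ← LocFlat.mem_smul_top_iff] at hz
      rw [Submodule.Quotient.mk_eq_zero, ← LocFlat.mem_smul_top_iff]
      have h2 := inf_smul_le_of_flat_quotient N (Ideal.comap (algebraMap A B) q.asIdeal)
        ⟨Submodule.smul_mem_pointwise_smul x g ⊤ trivial, hz⟩
      let μ : LocalizedModule q.asIdeal.primeCompl M →ₗ[A] LocalizedModule q.asIdeal.primeCompl M :=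
        (LinearMap.lsmul B (LocalizedModule q.asIdeal.primeCompl M) g).restrictScalars A
      have hN : N = Submodule.map μ ⊤ := by
        ext w
        simp [N, μ, Submodule.mem_smul_pointwise_iff_exists]
      rw [hN, ← Submodule.map_smul''] at h2
      obtain ⟨y, hy, hyx⟩ := h2
      exact (hreg hyx : y = x) ▸ hy

end Groth.Agent.FlatSeqLib
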